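import Mathlib
import Cfsg.Agent.Lib.Comput.NetModel

/-! generated by tools/cgt -/

set_option autoImplicit false
set_option maxRecDepth 100000
set_option Elab.async false

namespace CfsgLib.MultC.M12.C

open CfsgLib.Comput

noncomputable def n0 : Net :=
  Net.cons 1 0x510100
  (Net.cons 2 0x220200
  (Net.cons 4 0x50a00
  (Net.cons 8 0x4b
  (Net.cons 16 0x6b
  (Net.cons 8 0x63
  (Net.cons 4 0xc0405
  (Net.cons 2 0x222333
  (Net.cons 1 0x440404
  (Net.nil)))))))))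

noncomputable def n2 : Net :=
  Net.cons 1 0x401410
  (Net.cons 2 0x321020
  (Net.cons 4 0x90900
  (Net.cons 8 0x81
  (Net.cons 16 0x9d
  (Net.cons 8 0x81
  (Net.cons 4 0x20308
  (Net.cons 2 0x21032
  (Net.cons 1 0x110001
  (Net.nil)))))))))

noncomputable def n4 : Net :=
  Net.cons 1 0x504
  (Net.cons 2 0x322200
  (Net.cons 4 0x50a00
  (Net.cons 8 0x16
  (Net.cons 16 0x36
  (Net.cons 8 0x3e
  (Net.cons 4 0xf0600
  (Net.cons 2 0x312232
  (Net.cons 1 0x505500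
  (Net.nil)))))))))

noncomputable def n6 : Net :=
  Net.cons 1 0x450400
  (Net.cons 2 0x200300
  (Net.cons 4 0x20300
  (Net.cons 8 0x24
  (Net.cons 16 0xac
  (Net.cons 8 0x1c
  (Net.cons 4 0x20d02
  (Net.cons 2 0x22002
  (Net.cons 1 0x410114
  (Net.nil)))))))))

noncomputable def n8 : Net :=
  Net.cons 1 0x440010
  (Net.cons 2 0x302100
  (Net.cons 4 0x10a00
  (Net.cons 8 0x92
  (Net.cons 16 0x9a
  (Net.cons 8 0xe6
  (Net.cons 4 0x70f00
  (Net.cons 2 0x233120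
  (Net.cons 1 0x511140
  (Net.nil)))))))))

noncomputable def n10 : Net :=
  Net.cons 1 0x50010
  (Net.cons 2 0x231320
  (Net.cons 4 0x50000
  (Net.cons 8 0x16
  (Net.cons 16 0x36
  (Net.cons 8 0x6a
  (Net.cons 4 0x604
  (Net.cons 2 0x211300
  (Net.cons 1 0x45154
  (Net.nil)))))))))

noncomputable def n12 : Net :=
  Net.cons 1 0x110000
  (Net.cons 2 0x23200
  (Net.cons 4 0x70900
  (Net.cons 8 0x9
  (Net.cons 16 0x69
  (Net.cons 8 0x51
  (Net.cons 4 0x70e00
  (Net.cons 2 0x312320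
  (Net.cons 1 0x145400
  (Net.nil)))))))))

noncomputable def n14 : Net :=
  Net.cons 1 0x411010
  (Net.cons 2 0x321200
  (Net.cons 4 0x90d00
  (Net.cons 8 0x60
  (Net.cons 16 0xf0
  (Net.cons 8 0x90
  (Net.cons 4 0x20908
  (Net.cons 2 0x1330
  (Net.cons 1 0x514510
  (Net.nil)))))))))

noncomputable def n16 : Net :=
  Net.cons 1 0x440400
  (Net.cons 2 0x120100
  (Net.cons 4 0xf0c00
  (Net.cons 8 0x95
  (Net.cons 16 0xf5
  (Net.cons 8 0x25
  (Net.cons 4 0xf0300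
  (Net.cons 2 0x201020
  (Net.cons 1 0x500440
  (Net.nil)))))))))

noncomputable def n18 : Net :=
  Net.cons 1 0x554100
  (Net.cons 2 0x23000
  (Net.cons 4 0x80300
  (Net.cons 8 0x7
  (Net.cons 16 0xf7
  (Net.cons 8 0xa7
  (Net.cons 4 0x50b00
  (Net.cons 2 0x311230
  (Net.cons 1 0x101450
  (Net.nil)))))))))

noncomputable def n20 : Net :=
  Net.cons 1 0x54500
  (Net.cons 2 0x102100
  (Net.cons 4 0x10c00
  (Net.cons 8 0xf
  (Net.cons 16 0xf
  (Net.cons 8 0xdf
  (Net.cons 4 0x10c00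
  (Net.cons 2 0x102100
  (Net.cons 1 0x154500
  (Net.nil)))))))))

noncomputable def W : List Net := [n0, n0.rev, n2, n2.rev, n4, n4.rev, n6, n6.rev, n8, n8.rev, n10, n10.rev, n12, n12.rev, n14, n14.rev, n16, n16.rev, n18, n18.rev, n20]

theorem W_ok : allL (Net.ok 24) W = true := by decide +kernel

end CfsgLib.MultC.M12.C
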