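import Mathlib
import Cfsg.Agent.Lib.Comput.Check3
import Cfsg.Agent.Lib.MultC.M12.C.Data

/-! generated by tools/cgt -/

set_option autoImplicit false
set_option maxRecDepth 100000
set_option Elab.async false

namespace CfsgLib.MultC.M12.C

open CfsgLib.Comput

def R5_0 : RepC := ⟨21, 1, [],
  []⟩
def S5_0 : GenC := ⟨21, [],
  [(0, 0, 0, 1, 0), (0, 1, 0, 0, 0)], 0⟩
def L5 : Level := ⟨0x0, 0x100000, [], 1, 4, 0, 2, [R5_0], [S5_0]⟩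
def X5 : Ext := []

def R4_0 : RepC := ⟨18, 1, [(21, 21)],
  [(4, 1, [1])]⟩
def R4_1 : RepC := ⟨20, 1, [(21, 21)],
  [(12, 1, [1])]⟩
def R4_2 : RepC := ⟨0x1412, 1, [(21, 21)],
  [(4, 1, [1])]⟩
def S4_0 : GenC := ⟨18, [(21, 21)],
  [(0, 0, 0, 1, 0), (0, 1, 0, 0, 21), (0, 2, 0, 3, 21), (0, 3, 0, 2, 0)], 0⟩
def S4_1 : GenC := ⟨20, [(21, 21)],
  [(0, 0, 0, 2, 0), (0, 1, 0, 3, 0), (0, 2, 0, 0, 21), (0, 3, 0, 1, 21)], 0⟩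
def L4 : Level := ⟨0x100000, 0x1f0000, [21], 2, 5, 0, 4, [R4_0, R4_1, R4_2], [S4_0, S4_1]⟩
def X4 : Ext := [(16, 18, 0), (18, 20, 0)]

def R3_0 : RepC := ⟨13, 8, [],
  []⟩
def S3_0 : GenC := ⟨14, [],
  [(0, 0, 17, 1, 0x1215), (0, 1, 0, 0, 0), (17, 1, 0x1312, 1, 0x141215), (21, 1, 18, 1, 21), (0x1412, 1, 0x1412, 1, 0x1215), (0x1312, 1, 0, 1, 20), (18, 1, 20, 1, 0x1415), (19, 1, 21, 1, 0x1412), (20, 1, 19, 1, 18)], 0⟩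
def L3 : Level := ⟨0x1f0000, 0x1ff000, [18, 20, 21], 8, 3, 0, 9, [R3_0], [S3_0]⟩
def X3 : Ext := [(12, 14, 0), (14, 0, 0x110e141215), (15, 15, 0)]

def R2_0 : RepC := ⟨0xc0a, 9, [(0x1415, 0x130d1415), (18, 0xe141215)],
  [(18, 2, [1, 2])]⟩
def S2_0 : GenC := ⟨10, [(0x1012, 0x101415), (0xe15, 0xd141215)],
  [(0, 0, 0x150e, 1, 0x140d1415), (0x130d, 1, 0, 0, 0x140d), (0, 1, 0x140d, 1, 0x1215)], 2⟩
def L2 : Level := ⟨0x1ff000, 0x1fff00, [14, 18, 20, 21], 72, 2, 0, 10, [R2_0], [S2_0]⟩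
def X2 : Ext := [(8, 10, 0), (10, 0, 0x90f14), (11, 11, 0)]

def R1_0 : RepC := ⟨0xa06, 10, [(0xe1215, 0x120a0e14), (0xd1215, 0x120a0e1415), (14, 0xe0a140d), (16, 0x1415)],
  [(15, 2, [1, 2, 3, 4]), (3, 2, [1, 2])]⟩
def S1_0 : GenC := ⟨6, [(21, 0xe0a140d1412), (0x120a0e, 0x140e)],
  [(0, 0, 9, 1, 0), (0xc0a, 1, 0, 0, 0x110a140e1415), (0, 1, 0xc0a, 1, 0x130a140e12)], 3⟩
def L1 : Level := ⟨0x1fff00, 0x1ffff0, [10, 14, 18, 20, 21], 720, 1, 0, 11, [R1_0], [S1_0]⟩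
def X1 : Ext := [(4, 6, 0), (6, 0, 0x13060f), (7, 7, 0)]

def R0_0 : RepC := ⟨3, 11, [(0xc0a140e1215, 0x6060c0a140e), (0xe0a15, 0x8090d15), (0xe12, 0x5150a1412), (0xe0a0d, 0x1106130a101415)],
  [(22, 3, [1, 2, 3, 4]), (9, 3, [1, 2, 3]), (2, 2, [1, 2])]⟩
def S0_0 : GenC := ⟨2, [(0x6060e1415, 0x6060c0a150e15), (0xd1412, 0xc0e15)],
  [(0, 0, 0x1106, 1, 0xa060c0a1014), (0x1106, 1, 0, 0, 0x6060c0e141215), (0, 1, 0x606, 1, 0x11060c0a0e1215)], 3⟩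
def L0 : Level := ⟨0x1ffff0, 0x1fffff, [6, 10, 14, 18, 20, 21], 7920, 0, 0, 12, [R0_0], [S0_0]⟩
def X0 : Ext := [(0, 2, 0), (2, 0, 0x71502070c140e), (3, 3, 0)]

def top : List ℕ := [1, 3]
def gs : List ℕ := [2, 6, 10, 14, 18, 20, 21]
def XD : Ext := [(1, 1, 0), (3, 3, 0), (4, 0, 0x4040104), (5, 5, 0), (6, 0, 0x101), (7, 7, 0), (8, 0, 0x70608), (9, 9, 0), (10, 0, 0x5050705), (11, 11, 0), (12, 0, 0xa0c0a0a), (13, 13, 0), (14, 0, 0x90b0a0c0c0909), (15, 15, 0), (16, 0, 0xf0e10), (17, 17, 0), (18, 0, 0xf0f0d0f), (19, 19, 0), (20, 0, 0x121412131111)]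

/-- all the equations of the certificate -/
structure Eqs {G : Type*} [Group G] (g : ℕ → G) : Prop where
  l5 : AllHold g L5.eqns
  x5 : AllHold g X5.eqns
  l4 : AllHold g L4.eqns
  x4 : AllHold g X4.eqns
  l3 : AllHold g L3.eqns
  x3 : AllHold g X3.eqns
  l2 : AllHold g L2.eqns
  x2 : AllHold g X2.eqns
  l1 : AllHold g L1.eqns
  x1 : AllHold g X1.eqns
  l0 : AllHold g L0.eqns
  x0 : AllHold g X0.eqns
  xd : AllHold g XD.eqns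

end CfsgLib.MultC.M12.C
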